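import Mathlib.RingTheory.TensorProduct.DirectLimitFG
import Mathlib.RingTheory.FinitePresentation
import Mathlib.RingTheory.Adjoin.FG
import Mathlib.RingTheory.TensorProduct.Maps

/-! An isomorphism between base changes of finitely presented algebras descends to a finite type stage. -/

set_option autoImplicit false
universe u

open TensorProduct

namespace Groth.Agent.FlatMor12.Combine

variable {R A : Type u} [CommRing R] [CommRing A] [Algebra R A]
variable (C : Type u) [CommRing C] [Algebra R C]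

/-- The map from a stage to the limit. -/
noncomputable def toLim (T : Subalgebra R A) : T ⊗[R] C →ₐ[R] A ⊗[R] C :=
  Algebra.TensorProduct.map T.val (AlgHom.id R C)

/-- The map between two stages. -/
noncomputable def trans {T T' : Subalgebra R A} (h : T ≤ T') : T ⊗[R] C →ₐ[R] T' ⊗[R] C :=
  Algebra.TensorProduct.map (Subalgebra.inclusion h) (AlgHom.id R C)

theorem toLim_trans {T T' : Subalgebra R A} (h : T ≤ T') (x : T ⊗[R] C) :
    toLim C T' (trans C h x) = toLim C T x :=
  AlgHom.congr_fun (show (toLim C T').comp (trans C h) = toLim C T from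
    Algebra.TensorProduct.ext (AlgHom.ext fun t => rfl) (AlgHom.ext fun c => rfl)) x

theorem trans_trans {T T' T'' : Subalgebra R A} (h : T ≤ T') (h' : T' ≤ T'') (x : T ⊗[R] C) :
    trans C h' (trans C h x) = trans C (h.trans h') x :=
  AlgHom.congr_fun (show (trans C h').comp (trans C h) = trans C (h.trans h') from
    Algebra.TensorProduct.ext (AlgHom.ext fun t => rfl) (AlgHom.ext fun c => rfl)) x

theorem toLim_apply (T : Subalgebra R A) (x : T ⊗[R] C) :
    toLim C T x = LinearMap.rTensor C T.val.toLinearMap x := rfl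

theorem exists_lift (x : A ⊗[R] C) :
    ∃ T : Subalgebra R A, T.FG ∧ ∃ y, toLim C T y = x := by
  obtain ⟨T, hT, y, hy⟩ := TensorProduct.Algebra.exists_of_fg x
  exact ⟨T, hT, y, hy⟩

theorem exists_eq {T : Subalgebra R A} (hT : T.FG) (x y : T ⊗[R] C) (h : toLim C T x = toLim C T y) :
    ∃ (T' : Subalgebra R A) (hle : T ≤ T'), T'.FG ∧ trans C hle x = trans C hle y := by
  obtain ⟨T', hle, hT', h'⟩ := TensorProduct.Algebra.eq_of_fg_of_subtype_eq hT h
  exact ⟨T', hle, hT', h'⟩

variable {C}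

theorem exists_lift_finite {α : Type*} [Finite α] (x : α → A ⊗[R] C) :
    ∃ T : Subalgebra R A, T.FG ∧ ∀ a, ∃ y, toLim C T y = x a := by
  classical
  choose T hT y hy using fun a => exists_lift C (x a)
  haveI := Fintype.ofFinite α
  refine ⟨Finset.univ.sup T, ?_, fun a => ?_⟩
  · exact Finset.sup_induction Subalgebra.fg_bot (fun _ h _ h' => h.sup h') fun a _ => hT a
  · exact ⟨trans C (Finset.le_sup (f := T) (Finset.mem_univ a)) (y a), (toLim_trans C _ _).trans (hy a)⟩

theorem exists_eq_finite {α : Type*} [Finite α] {T : Subalgebra R A} (hT : T.FG) (x y : α → T ⊗[R] C)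
    (h : ∀ a, toLim C T (x a) = toLim C T (y a)) :
    ∃ (T' : Subalgebra R A) (hle : T ≤ T'), T'.FG ∧ ∀ a, trans C hle (x a) = trans C hle (y a) := by
  classical
  choose T' hle hT' he using fun a => exists_eq C hT (x a) (y a) (h a)
  haveI := Fintype.ofFinite α
  refine ⟨T ⊔ Finset.univ.sup T', le_sup_left, hT.sup ?_, fun a => ?_⟩
  · exact Finset.sup_induction Subalgebra.fg_bot (fun _ h _ h' => h.sup h') fun a _ => hT' a
  · have := congrArg (trans C ((Finset.le_sup (Finset.mem_univ a)).trans le_sup_right :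
      T' a ≤ T ⊔ Finset.univ.sup T')) (he a)
    rwa [trans_trans, trans_trans] at this

variable {D : Type u} [CommRing D] [Algebra R D]

/-- A map out of a finitely presented algebra lifts to a stage. -/
theorem exists_hom_stage [Algebra.FinitePresentation R D] (φ : D →ₐ[R] A ⊗[R] C) :
    ∃ (T : Subalgebra R A), T.FG ∧ ∃ φT : D →ₐ[R] T ⊗[R] C, ∀ d, toLim C T (φT d) = φ d := by
  obtain ⟨n, π, hπ, s, hker⟩ := ‹Algebra.FinitePresentation R D›.out
  obtain ⟨T, hT, hx⟩ := exists_lift_finite fun k : Fin n => φ (π (MvPolynomial.X k))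
  choose x hx using hx
  let ev : MvPolynomial (Fin n) R →ₐ[R] T ⊗[R] C := MvPolynomial.aeval x
  have hev : ∀ f, toLim C T (ev f) = φ (π f) := AlgHom.congr_fun (show (toLim C T).comp ev = φ.comp π from
    MvPolynomial.algHom_ext fun k => by simp [ev, hx])
  obtain ⟨T', hle, hT', he⟩ := exists_eq_finite hT (fun f : s => ev f.1) (fun _ => 0) fun f => by
    have h0 : (f : MvPolynomial (Fin n) R) ∈ RingHom.ker π.toRingHom := hker ▸ Ideal.subset_span f.2
    rw [hev, show π (f : MvPolynomial (Fin n) R) = 0 from h0, map_zero, map_zero]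
  have hk : RingHom.ker π.toRingHom ≤ RingHom.ker ((trans C hle).comp ev).toRingHom := by
    rw [← hker, Ideal.span_le]
    intro f hf
    show trans C hle (ev f) = 0
    rw [he ⟨f, hf⟩, map_zero]
  refine ⟨T', hT', AlgHom.liftOfSurjective π hπ ((trans C hle).comp ev) hk, fun d => ?_⟩
  obtain ⟨f, rfl⟩ := hπ d
  rw [AlgHom.liftOfSurjective_apply]
  show toLim C T' (trans C hle (ev f)) = _
  rw [toLim_trans, hev]

/-- The extension of a map to a stage. -/
noncomputable def extendHom (T : Subalgebra R A) (φ : D →ₐ[R] T ⊗[R] C) : T ⊗[R] D →ₐ[T] T ⊗[R] C :=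
  Algebra.TensorProduct.lift (Algebra.ofId T (T ⊗[R] C)) φ fun _ _ => Commute.all _ _

theorem extendHom_tmul (T : Subalgebra R A) (φ : D →ₐ[R] T ⊗[R] C) (t : T) (d : D) :
    extendHom T φ (t ⊗ₜ d) = (t ⊗ₜ[R] (1 : C)) * φ d := by
  simp [extendHom, Algebra.ofId_apply, Algebra.TensorProduct.algebraMap_apply]

theorem toLim_extendHom (T : Subalgebra R A) (φT : D →ₐ[R] T ⊗[R] C) (φ : A ⊗[R] D →ₐ[A] A ⊗[R] C)
    (h : ∀ d, toLim C T (φT d) = φ (1 ⊗ₜ d)) (x : T ⊗[R] D) :
    toLim C T (extendHom T φT x) = φ (toLim D T x) := by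
  induction x using TensorProduct.induction_on with
  | zero => simp
  | tmul t d =>
    rw [extendHom_tmul, map_mul, h, show toLim D T (t ⊗ₜ d) = (t : A) ⊗ₜ[R] d from rfl,
      show ((t : A) ⊗ₜ[R] d) = algebraMap A (A ⊗[R] D) (t : A) * (1 ⊗ₜ d) by
        rw [Algebra.TensorProduct.algebraMap_apply, Algebra.algebraMap_self, RingHom.id_apply,
          Algebra.TensorProduct.tmul_mul_tmul, mul_one, one_mul],
      map_mul, AlgHom.commutes, Algebra.TensorProduct.algebraMap_apply, Algebra.algebraMap_self, RingHom.id_apply]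
    rfl
  | add x y hx hy => simp [hx, hy]

theorem extendHom_trans {T T' : Subalgebra R A} (hle : T ≤ T') (φT : D →ₐ[R] T ⊗[R] C) (x : T ⊗[R] D) :
    extendHom T' ((trans C hle).comp φT) (trans D hle x) = trans C hle (extendHom T φT x) := by
  induction x using TensorProduct.induction_on with
  | zero => simp
  | tmul t d =>
    rw [show trans D hle (t ⊗ₜ d) = Subalgebra.inclusion hle t ⊗ₜ[R] d from rfl, extendHom_tmul,
      extendHom_tmul, map_mul]
    rfl
  | add x y hx hy => simp [hx, hy]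

/-- An isomorphism between base changes of finitely presented algebras descends. -/
theorem exists_stage_algEquiv [Algebra.FinitePresentation R C] [Algebra.FinitePresentation R D]
    (e : A ⊗[R] D ≃ₐ[A] A ⊗[R] C) :
    ∃ T : Subalgebra R A, T.FG ∧ Nonempty (T ⊗[R] D ≃ₐ[T] T ⊗[R] C) := by
  obtain ⟨T₁, hT₁, φ₁, hφ⟩ := exists_hom_stage (C := C) (D := D)
    ((e.toAlgHom.restrictScalars R).comp Algebra.TensorProduct.includeRight)
  obtain ⟨T₂, hT₂, ψ₂, hψ⟩ := exists_hom_stage (C := D) (D := C)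
    ((e.symm.toAlgHom.restrictScalars R).comp Algebra.TensorProduct.includeRight)
  let T := T₁ ⊔ T₂
  let φT : D →ₐ[R] T ⊗[R] C := (trans C (le_sup_left : T₁ ≤ T)).comp φ₁
  let ψT : C →ₐ[R] T ⊗[R] D := (trans D (le_sup_right : T₂ ≤ T)).comp ψ₂
  have h1 := toLim_extendHom T φT e.toAlgHom fun d => (toLim_trans C _ _).trans (hφ d)
  have h2 := toLim_extendHom T ψT e.symm.toAlgHom fun c => (toLim_trans D _ _).trans (hψ c)
  obtain ⟨n, πC, hπC⟩ := Algebra.FiniteType.iff_quotient_mvPolynomial''.1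
    (inferInstance : Algebra.FiniteType R C)
  obtain ⟨n', πD, hπD⟩ := Algebra.FiniteType.iff_quotient_mvPolynomial''.1
    (inferInstance : Algebra.FiniteType R D)
  obtain ⟨Tc, hlec, hTc, hec⟩ := exists_eq_finite (hT₁.sup hT₂)
    (fun i : Fin n => extendHom T φT (ψT (πC (MvPolynomial.X i))))
    (fun i => 1 ⊗ₜ πC (MvPolynomial.X i)) fun i => by
      rw [h1]
      show e (toLim D T (ψT _)) = _
      rw [show toLim D T (ψT (πC (MvPolynomial.X i))) = e.symm (1 ⊗ₜ πC (MvPolynomial.X i)) from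
        (toLim_trans D _ _).trans (hψ _), e.apply_symm_apply]
      rfl
  obtain ⟨Td, hled, hTd, hed⟩ := exists_eq_finite (hT₁.sup hT₂)
    (fun i : Fin n' => extendHom T ψT (φT (πD (MvPolynomial.X i))))
    (fun i => 1 ⊗ₜ πD (MvPolynomial.X i)) fun i => by
      rw [h2]
      show e.symm (toLim C T (φT _)) = _
      rw [show toLim C T (φT (πD (MvPolynomial.X i))) = e (1 ⊗ₜ πD (MvPolynomial.X i)) from
        (toLim_trans C _ _).trans (hφ _), e.symm_apply_apply]
      rfl
  let T' := Tc ⊔ Td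
  have hl : T ≤ T' := hlec.trans le_sup_left
  let Φ := extendHom T' ((trans C hl).comp φT)
  let Ψ := extendHom T' ((trans D hl).comp ψT)
  have hΦΨ : Φ.comp Ψ = AlgHom.id T' _ := by
    refine Algebra.TensorProduct.ext (AlgHom.ext fun t => ((Φ.comp Ψ).commutes t).trans rfl)
      (AlgHom.ext fun c => ?_)
    obtain ⟨p, rfl⟩ := hπC c
    refine AlgHom.congr_fun (φ₂ := ((AlgHom.id T' (T' ⊗[R] C)).restrictScalars R).comp
      (Algebra.TensorProduct.includeRight.comp πC)) (φ₁ := ((Φ.comp Ψ).restrictScalars R).comp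
      (Algebra.TensorProduct.includeRight.comp πC)) (MvPolynomial.algHom_ext fun i => ?_) p
    show Φ (Ψ (1 ⊗ₜ πC (MvPolynomial.X i))) = 1 ⊗ₜ πC (MvPolynomial.X i)
    have := congrArg (trans C (le_sup_left : Tc ≤ T')) (hec i)
    rw [trans_trans, trans_trans, ← extendHom_trans hl] at this
    rw [extendHom_tmul, ← Algebra.TensorProduct.one_def, one_mul]
    exact this
  have hΨΦ : Ψ.comp Φ = AlgHom.id T' _ := by
    refine Algebra.TensorProduct.ext (AlgHom.ext fun t => ((Ψ.comp Φ).commutes t).trans rfl)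
      (AlgHom.ext fun c => ?_)
    obtain ⟨p, rfl⟩ := hπD c
    refine AlgHom.congr_fun (φ₂ := ((AlgHom.id T' (T' ⊗[R] D)).restrictScalars R).comp
      (Algebra.TensorProduct.includeRight.comp πD)) (φ₁ := ((Ψ.comp Φ).restrictScalars R).comp
      (Algebra.TensorProduct.includeRight.comp πD)) (MvPolynomial.algHom_ext fun i => ?_) p
    show Ψ (Φ (1 ⊗ₜ πD (MvPolynomial.X i))) = 1 ⊗ₜ πD (MvPolynomial.X i)
    have := congrArg (trans D (le_sup_right : Td ≤ T')) (hed i)
    rw [trans_trans, trans_trans, ← extendHom_trans hl] at this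
    rw [extendHom_tmul, ← Algebra.TensorProduct.one_def, one_mul]
    exact this
  exact ⟨T', hTc.sup hTd, ⟨AlgEquiv.ofAlgHom Φ Ψ hΦΨ hΨΦ⟩⟩

end Groth.Agent.FlatMor12.Combine
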